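import Cfsg.Agent.H604.U33.Mat

/-!
# S5525, part F, piece L4: the image of `K` on `O / U = F₂⁶`, abstract form (helper604)

`im_ge` : `U ≤ O` with `O / U` commutative, generated by six elements `W a` with squares in `U`, `|O / U| ≥ 64`, `K` normalises
both, and `k c ∈ K` acts on the `W a` by the matrix `Kw c`. Then `25920 · |{a ∈ K trivial on O / U}| ≤ |K|`.
-/

set_option autoImplicit false

namespace Cfsg.Agent.H604.U33.ImAbs

open Cfsg.Agent.H863.U33 Cfsg.Agent.H604.U33.Mat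
open Subgroup

/-- ordered products of the `W a` -/
def pr {G : Type*} [Group G] (W : Fin 6 → G) (m : X) : G :=
  W 0 ^ (m 0).val * W 1 ^ (m 1).val * W 2 ^ (m 2).val * W 3 ^ (m 3).val * W 4 ^ (m 4).val * W 5 ^ (m 5).val

theorem pow_val_add {Q : Type*} [Group Q] {w : Q} (hw : w * w = 1) (a b : ZMod 2) :
    w ^ (a + b).val = w ^ a.val * w ^ b.val := by
  have key : ∀ a b : ZMod 2, (a.val = 0 ∧ (a + b).val = b.val) ∨ (b.val = 0 ∧ (a + b).val = a.val) ∨
      (a.val = 1 ∧ b.val = 1 ∧ (a + b).val = 0) := by decide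
  rcases key a b with ⟨h1, h2⟩ | ⟨h1, h2⟩ | ⟨h1, h2, h3⟩
  · rw [h2, h1, pow_zero, one_mul]
  · rw [h2, h1, pow_zero, mul_one]
  · rw [h1, h2, h3, pow_zero, pow_one, hw]

theorem pr_eq {Q : Type*} [CommGroup Q] (W : Fin 6 → Q) (m : X) : pr W m = ∏ i, W i ^ (m i).val := by
  rw [Fin.prod_univ_six]
  rfl

/-- in a commutative group with `W a ^ 2 = 1` : the homomorphism -/
def ps {Q : Type*} [CommGroup Q] (W : Fin 6 → Q) (hW : ∀ a, W a * W a = 1) : X →+ Additive Q where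
  toFun m := Additive.ofMul (pr W m)
  map_zero' := by
    rw [pr_eq]
    have : ∏ i, W i ^ ((0 : X) i).val = 1 := by
      apply Finset.prod_eq_one
      intro i _
      show W i ^ (0 : ZMod 2).val = 1
      rw [ZMod.val_zero, pow_zero]
    rw [this]
    rfl
  map_add' m m' := by
    rw [pr_eq, pr_eq, pr_eq, ← ofMul_mul, ← Finset.prod_mul_distrib]
    congr 1
    apply Finset.prod_congr rfl
    intro i _
    exact pow_val_add (hW i) _ _

theorem ps_apply {Q : Type*} [CommGroup Q] (W : Fin 6 → Q) (hW : ∀ a, W a * W a = 1) (m : X) :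
    ps W hW m = Additive.ofMul (pr W m) := rfl

theorem mu_eq (A : Fin 6 → Fin 6 → ZMod 2) (m : X) : mu A m = ∑ i, (m i).val • A i := by
  funext j
  rw [Finset.sum_apply]
  apply Finset.sum_congr rfl
  intro i _
  rw [Pi.smul_apply, nsmul_eq_mul, ZMod.natCast_val, ZMod.cast_id', id]

/-- an endomorphism acting on the generators by the matrix `A` acts on the products by `A` -/
theorem map_pr {Q : Type*} [CommGroup Q] {W : Fin 6 → Q} (hW : ∀ a, W a * W a = 1) {A : Fin 6 → Fin 6 → ZMod 2} (κ : Q →* Q)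
    (hκ : ∀ a, κ (W a) = pr W (A a)) (m : X) : κ (pr W m) = pr W (mu A m) := by
  have h1 : pr W (mu A m) = (ps W hW (mu A m)).toMul := rfl
  rw [h1, mu_eq, map_sum, toMul_sum, pr_eq, map_prod]
  apply Finset.prod_congr rfl
  intro i _
  rw [map_pow, hκ, map_nsmul, toMul_nsmul]
  rfl

theorem pr_single {Q : Type*} [CommGroup Q] (W : Fin 6 → Q) (a : Fin 6) : pr W (Pi.single a 1) = W a := by
  rw [pr_eq, Finset.prod_eq_single a]
  · rw [Pi.single_eq_same]
    have : (1 : ZMod 2).val = 1 := by decide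
    rw [this, pow_one]
  · intro b _ hb
    rw [Pi.single_eq_of_ne hb, ZMod.val_zero, pow_zero]
  · intro h
    exact absurd (Finset.mem_univ a) h

section main

variable {G : Type*} [Group G] [Finite G] {O U K : Subgroup G}

theorem im_ge (hUO : U ≤ O) (hKO : ∀ a ∈ K, ∀ p ∈ O, a⁻¹ * p * a ∈ O) (hKU : ∀ a ∈ K, ∀ p ∈ U, a⁻¹ * p * a ∈ U)
    (hcomm : ∀ p ∈ O, ∀ a ∈ O, p⁻¹ * (a⁻¹ * p * a) ∈ U) {W : Fin 6 → G} (hWO : ∀ a, W a ∈ O) (hW2 : ∀ a, W a * W a ∈ U)
    (hgen : O ≤ closure ((U : Set G) ∪ Set.range W)) (hidx : 64 ≤ U.relIndex O) {k : Fin 2 → G} (hk : ∀ c, k c ∈ K)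
    (hkW : ∀ c a, (pr W (Kw c a))⁻¹ * ((k c)⁻¹ * W a * k c) ∈ U) :
    25920 * Nat.card {a : G // a ∈ K ∧ ∀ p ∈ O, p⁻¹ * (a⁻¹ * p * a) ∈ U} ≤ Nat.card K := by
  classical
  have hUn : ∀ p ∈ U, ∀ a ∈ O, a⁻¹ * p * a ∈ U := by
    intro p hp a ha
    have h1 := U.mul_mem hp (hcomm p (hUO hp) a ha)
    rwa [mul_inv_cancel_left] at h1
  have hn : (U.subgroupOf O).Normal := by
    constructor
    rintro ⟨x, hx⟩ hx' ⟨s, hs⟩
    have h1 := hUn x hx' s⁻¹ (O.inv_mem hs)
    rw [inv_inv] at h1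
    exact h1
  -- the quotient
  let Q := ↥O ⧸ U.subgroupOf O
  have hQc : ∀ a b : Q, a * b = b * a := by
    intro a b
    obtain ⟨a, rfl⟩ := QuotientGroup.mk_surjective a
    obtain ⟨b, rfl⟩ := QuotientGroup.mk_surjective b
    rw [← QuotientGroup.mk_mul, ← QuotientGroup.mk_mul, QuotientGroup.eq, mem_subgroupOf]
    have h1 := hcomm b b.2 a a.2
    have : ((((a * b)⁻¹ * (b * a) : ↥O)) : G) = (b : G)⁻¹ * ((a : G)⁻¹ * b * a) := by
      push_cast
      group
    rw [this]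
    exact h1
  let _ : CommGroup Q := { (inferInstance : Group Q) with mul_comm := hQc }
  let q : ↥O →* Q := QuotientGroup.mk' (U.subgroupOf O)
  have hq : ∀ p p' : ↥O, q p = q p' ↔ (p : G)⁻¹ * p' ∈ U := by
    intro p p'
    show (QuotientGroup.mk p : Q) = QuotientGroup.mk p' ↔ _
    rw [QuotientGroup.eq, mem_subgroupOf]
    rfl
  have hq1 : ∀ p : ↥O, (p : G) ∈ U → q p = 1 := by
    intro p hp
    rw [← map_one q, hq]
    push_cast
    rw [mul_one]
    exact U.inv_mem hp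
  let W' : Fin 6 → Q := fun a => q ⟨W a, hWO a⟩
  have hW' : ∀ a, W' a * W' a = 1 := by
    intro a
    rw [← map_mul]
    exact hq1 _ (hW2 a)
  -- products
  have hpr : ∀ m : X, pr W m ∈ O := by
    intro m
    unfold pr
    exact O.mul_mem (O.mul_mem (O.mul_mem (O.mul_mem (O.mul_mem (O.pow_mem (hWO _) _) (O.pow_mem (hWO _) _))
      (O.pow_mem (hWO _) _)) (O.pow_mem (hWO _) _)) (O.pow_mem (hWO _) _)) (O.pow_mem (hWO _) _)
  have hprq : ∀ m : X, q ⟨pr W m, hpr m⟩ = pr W' m := by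
    intro m
    have h1 : (⟨pr W m, hpr m⟩ : ↥O) = pr (fun a => (⟨W a, hWO a⟩ : ↥O)) m := by
      apply Subtype.ext
      unfold pr
      push_cast
      rfl
    rw [h1]
    unfold pr
    simp only [map_mul, map_pow]
    rfl
  -- the coordinates
  let f : X → Q := fun m => pr W' m
  have hfsurj : Function.Surjective f := by
    let R : Subgroup Q := AddSubgroup.toSubgroup' (ps W' hW').range
    have hR : ∀ x : Q, x ∈ R ↔ ∃ m, pr W' m = x := by
      intro x
      constructor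
      · rintro ⟨m, hm⟩
        exact ⟨m, hm⟩
      · rintro ⟨m, hm⟩
        exact ⟨m, hm⟩
    have h1 : closure ((U : Set G) ∪ Set.range W) ≤ (R.comap q).map O.subtype := by
      rw [closure_le]
      rintro x (hx | ⟨a, rfl⟩)
      · refine ⟨⟨x, hUO hx⟩, ?_, rfl⟩
        show q ⟨x, hUO hx⟩ ∈ R
        rw [hq1 _ hx]
        exact R.one_mem
      · refine ⟨⟨W a, hWO a⟩, ?_, rfl⟩
        show W' a ∈ R
        rw [hR]
        exact ⟨Pi.single a 1, pr_single W' a⟩
    intro x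
    obtain ⟨p, rfl⟩ := QuotientGroup.mk_surjective x
    obtain ⟨p', hp', hpp⟩ := h1 (hgen p.2)
    have h2 : p' = p := Subtype.ext hpp
    rw [h2] at hp'
    exact (hR _).1 hp'
  have hcardX : Nat.card X = 64 := by
    rw [Nat.card_eq_fintype_card]
    decide +kernel
  have hcardQ : 64 ≤ Nat.card Q := hidx
  have hfbij : Function.Bijective f := hfsurj.bijective_of_nat_card_le (by rw [hcardX]; exact hcardQ)
  let φ : X ≃ Q := Equiv.ofBijective f hfbij
  -- the action of `K`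
  let κ : ↥K → (↥O →* ↥O) := fun a =>
    { toFun := fun p => ⟨(a : G) * p * (a : G)⁻¹, by
        have h := hKO (a : G)⁻¹ (K.inv_mem a.2) p p.2
        rwa [inv_inv] at h⟩
      map_one' := by
        apply Subtype.ext
        show (a : G) * 1 * (a : G)⁻¹ = 1
        rw [mul_one, mul_inv_cancel]
      map_mul' := by
        intro p p'
        apply Subtype.ext
        show (a : G) * (p * p') * (a : G)⁻¹ = (a : G) * p * (a : G)⁻¹ * ((a : G) * p' * (a : G)⁻¹)
        group }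
  have hκU : ∀ a : ↥K, U.subgroupOf O ≤ (U.subgroupOf O).comap (κ a) := by
    intro a p hp
    have h := hKU (a : G)⁻¹ (K.inv_mem a.2) p hp
    rw [inv_inv] at h
    exact h
  let κ' : ↥K → (Q →* Q) := fun a => QuotientGroup.map _ _ (κ a) (hκU a)
  have hκ' : ∀ (a : ↥K) (p : ↥O), κ' a (q p) = q (κ a p) := fun a p => rfl
  let act : MulAction ↥K Q :=
    { smul := fun a x => κ' a x
      one_smul := by
        intro x
        obtain ⟨p, rfl⟩ := QuotientGroup.mk_surjective x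
        show q (κ 1 p) = q p
        congr 1
        apply Subtype.ext
        show (1 : G) * p * (1 : G)⁻¹ = p
        rw [one_mul, inv_one, mul_one]
      mul_smul := by
        intro a b x
        obtain ⟨p, rfl⟩ := QuotientGroup.mk_surjective x
        show q (κ (a * b) p) = q (κ a (κ b p))
        congr 1
        apply Subtype.ext
        show ((a : G) * b) * p * ((a : G) * b)⁻¹ = (a : G) * (b * p * (b : G)⁻¹) * (a : G)⁻¹
        group }
  let ρ : ↥K →* Equiv.Perm X := (φ.symm.permCongrHom).toMonoidHom.comp (MulAction.toPermHom ↥K Q)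
  have hρ : ∀ (a : ↥K) (m : X), ρ a m = φ.symm (κ' a (φ m)) := fun a m => rfl
  have hP : ∀ (c : Fin 2) (v : X), ρ (⟨k c, hk c⟩⁻¹) v = mu (Kw c) v := by
    intro c v
    rw [hρ, Equiv.symm_apply_eq]
    show κ' (⟨k c, hk c⟩⁻¹) (pr W' v) = pr W' (mu (Kw c) v)
    apply map_pr hW'
    intro a
    show q (κ (⟨k c, hk c⟩⁻¹) ⟨W a, hWO a⟩) = pr W' (Kw c a)
    rw [← hprq, eq_comm, hq]
    show (pr W (Kw c a))⁻¹ * ((k c)⁻¹ * W a * ((k c)⁻¹)⁻¹) ∈ U
    rw [inv_inv]
    exact hkW c a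
  have hS := card_ge (P := fun c => ρ (⟨k c, hk c⟩⁻¹)) hP (S := ρ.range) (fun c => ⟨_, rfl⟩)
  -- the kernel
  have hker : Nat.card {a : G // a ∈ K ∧ ∀ p ∈ O, p⁻¹ * (a⁻¹ * p * a) ∈ U} ≤ Nat.card ↥ρ.ker := by
    refine Nat.card_le_card_of_injective (fun a => (⟨⟨a.1, a.2.1⟩, ?_⟩ : ↥ρ.ker)) ?_
    · have h1 : (⟨a.1, a.2.1⟩ : ↥K)⁻¹ ∈ ρ.ker := by
        rw [MonoidHom.mem_ker]
        apply Equiv.ext
        intro m
        rw [hρ, Equiv.symm_apply_eq, Equiv.Perm.one_apply]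
        show κ' (⟨a.1, a.2.1⟩⁻¹) (pr W' m) = pr W' m
        rw [← hprq, hκ', eq_comm, hq]
        show (pr W m)⁻¹ * ((a : G)⁻¹ * pr W m * ((a : G)⁻¹)⁻¹) ∈ U
        rw [inv_inv]
        exact a.2.2 _ (hpr m)
      exact (Subgroup.inv_mem_iff _).1 h1
    · intro a b hab
      have h1 := congrArg (fun z : ↥ρ.ker => ((z : ↥K) : G)) hab
      exact Subtype.ext h1
  have hmul : Nat.card ↥ρ.ker * Nat.card ↥ρ.range = Nat.card ↥K := by
    rw [← Subgroup.index_ker, Subgroup.card_mul_index]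
  rw [← hmul, mul_comm]
  exact Nat.mul_le_mul hker hS

end main

end Cfsg.Agent.H604.U33.ImAbs
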