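import Cfsg.Agent.H757.U33.StC
import Cfsg.Agent.H604.U33.ImAbs

/-!
# S5525, part F, piece L4: the image of `K` on `O / U` (helper604)

`stIm : StNF → StO → StIm`, `stK : StNF → StO → StK`.
-/

set_option autoImplicit false
set_option linter.unusedSectionVars false

namespace Cfsg.Agent.H604.U33.StIm

open Subgroup Cfsg.Agent.H863.U33 Cfsg.Agent.H757.U33 Cfsg.Agent.H604.U33.ImAbs

variable {G : Type} [Group G] {y : G} {e : Fin 8 → G} {t : G} {w : Fin 6 → G} {k : Fin 2 → G} {n : G}

/-- `U` has order at most `2 |P|` -/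
theorem card_UU_le [Finite G] (h : TB y e t w k n) : Nat.card (UU y e t) ≤ 2 * Nat.card (PP y e) := by
  have htP : ∀ p ∈ PP y e, t * p * t ∈ PP y e := by
    intro p hp
    have h1 := (mem_N3.1 (t_mem_N3 (w := w) h)).1 p hp
    have h2 : t⁻¹ = t := inv_eq_of_mul_eq_one_left h.t2
    rwa [h2] at h1
  have htt : ∀ g : G, t * (t * g) = g := by
    intro g
    rw [← mul_assoc, h.t2, one_mul]
  let V : Subgroup G :=
    { carrier := {g | g ∈ PP y e ∨ t * g ∈ PP y e}
      one_mem' := Or.inl (one_mem _)
      mul_mem' := by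
        rintro a b (ha | ha) (hb | hb)
        · exact Or.inl (mul_mem ha hb)
        · right
          have h1 := mul_mem (htP a ha) hb
          have h2 : t * a * t * (t * b) = t * (a * b) := by
            rw [mul_assoc (t * a), htt, mul_assoc]
          rwa [h2] at h1
        · right
          have h1 := mul_mem ha hb
          rwa [mul_assoc] at h1
        · left
          have h1 := mul_mem (htP _ ha) hb
          have h2 : t * (t * a) * t * (t * b) = a * b := by
            rw [htt, mul_assoc, htt]
          rwa [h2] at h1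
      inv_mem' := by
        rintro a (ha | ha)
        · exact Or.inl (inv_mem ha)
        · right
          have h1 := htP _ (inv_mem ha)
          have h2 : t⁻¹ = t := inv_eq_of_mul_eq_one_left h.t2
          have h3 : t * (t * a)⁻¹ * t = t * a⁻¹ := by
            rw [mul_inv_rev, h2, mul_assoc, mul_assoc, h.t2, mul_one]
          rwa [h3] at h1 }
  have hle : UU y e t ≤ V := by
    unfold UU
    rw [closure_le]
    rintro x (hx | hx)
    · exact Or.inl (subset_closure hx)
    · right
      rw [Set.mem_singleton_iff.1 hx, h.t2]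
      exact one_mem _
  refine (card_le_of_le hle).trans ?_
  let F : Bool × PP y e → G := fun z => if z.1 then (z.2 : G) else t * z.2
  have hF : (V : Set G) ⊆ Set.range F := by
    rintro g (hg | hg)
    · exact ⟨(true, ⟨g, hg⟩), rfl⟩
    · exact ⟨(false, ⟨t * g, hg⟩), htt g⟩
  have h1 : Nat.card V ≤ Nat.card (Set.range F) := Nat.card_mono (Set.toFinite _) hF
  have h2 : Nat.card (Set.range F) ≤ Nat.card (Bool × PP y e) :=
    Nat.card_le_card_of_surjective (Set.rangeFactorization F) Set.rangeFactorization_surjective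
  rw [Nat.card_prod] at h2
  have h3 : Nat.card Bool = 2 := by rw [Nat.card_eq_fintype_card]; rfl
  rw [h3] at h2
  exact h1.trans h2

theorem relIndex_ge [Finite G] (hNF : StNF) (hO : StO) (h : TB y e t w k n) : 64 ≤ (UU y e t).relIndex (OO y e t w) := by
  have h1 := card_UU_le h
  have c1 : Nat.card (PP y e) = 3 ^ 9 := (hNF h).2.2
  have c2 : Nat.card (OO y e t w) = 3 ^ 9 * 2 ^ 7 := hO h
  have h2 := relIndex_mul_relIndex (⊥ : Subgroup G) (UU y e t) (OO y e t w) bot_le UU_le_OO
  rw [relIndex_bot_left, relIndex_bot_left, c2] at h2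
  rw [c1] at h1
  by_contra h3
  have h4 : Nat.card (UU y e t) * (UU y e t).relIndex (OO y e t w) ≤ (2 * 3 ^ 9) * 63 :=
    Nat.mul_le_mul h1 (by omega)
  rw [h2] at h4
  norm_num at h4

/-- **(L4)** -/
theorem stIm (hNF : StNF) (hO : StO) : StIm := by
  intro G _ _ y e t w k n h
  have hN3 : ∀ a ∈ KK y e t w k, a ∈ N3 y e t w := fun a ha => KK_le_N3 h ha
  refine im_ge (O := OO y e t w) (U := UU y e t) (K := KK y e t w k) (W := w) (k := k) UU_le_OO
    (fun a ha => (mem_N3.1 (hN3 a ha)).2.2) (fun a ha => (mem_N3.1 (hN3 a ha)).2.1)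
    (fun p hp a ha => comm_OO h hp ha) w_mem ?_ ?_ (relIndex_ge hNF hO h) ?_ ?_
  · intro a
    rw [h.w2]
    exact pow_mem t_mem _
  · unfold OO
    apply Subgroup.closure_mono
    rintro x (hx | hx)
    · exact Or.inl (subset_closure hx)
    · exact Or.inr hx
  · intro c
    exact subset_closure (Or.inr ⟨c, rfl⟩)
  · intro c a
    have h1 : wnf t w (Kw c a) (Ke c a) = pr w (Kw c a) * t ^ (Ke c a).val := rfl
    rw [h.kw, h1, inv_mul_cancel_left]
    exact pow_mem t_mem _

/-- the order of `K` -/
theorem stK (hNF : StNF) (hO : StO) : StK := stK_of hO (stIm hNF hO)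

/-- (L4') without further hypotheses -/
theorem stC' (hNF : StNF) (hO : StO) : StC := stC hNF hO (stIm hNF hO)

end Cfsg.Agent.H604.U33.StIm
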