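import Mathlib.Algebra.Group.Subgroup.Finite
import Mathlib.Algebra.Group.End
import Mathlib.Algebra.Group.TypeTags.Hom
import Mathlib.SetTheory.Cardinal.Finite
import Mathlib.Tactic

/-!
# S5525, piece F5 / L5: the coprime action of `3²` on a small `2`-group (helper604)

`triv` : `a`, `b` commuting automorphisms with `a³ = b³ = 1` of an elementary abelian `2`-group `V` of order less than `81`,
`w` an automorphism with `w⁻¹ a w = a² b²`, `w⁻¹ b w = a b²` (so `w` permutes the four subgroups of order 3 of `⟨a, b⟩`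
transitively). Then `a = b = 1`.

Proof: the vectors fixed by one of the four subgroups, with norm zero for another one, form four subgroups permuted by `w`, whose
sum is direct. If one is not zero, each has at least three elements: `81` sums.
-/

set_option autoImplicit false

namespace Cfsg.Agent.H604.U33.Coprime

section add

variable {V : Type*} [AddCommGroup V]

/-- The norm. -/
def N (g : V →+ V) (v : V) : V := v + g v + g (g v)

theorem N_add (g : V →+ V) (v w : V) : N g (v + w) = N g v + N g w := by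
  unfold N
  simp only [map_add]
  abel

theorem N_zero (g : V →+ V) : N g 0 = 0 := by
  unfold N
  simp

theorem N_neg (g : V →+ V) (v : V) : N g (-v) = - N g v := by
  unfold N
  simp only [map_neg]
  abel

/-- The vectors with `g v = k v`, whose `h`-norm is zero. -/
def M (g k h : V →+ V) : AddSubgroup V where
  carrier := {v | g v = k v ∧ N h v = 0}
  zero_mem' := ⟨by rw [map_zero, map_zero], N_zero h⟩
  add_mem' := by
    rintro v w ⟨h1, h2⟩ ⟨h3, h4⟩
    exact ⟨by rw [map_add, map_add, h1, h3], by rw [N_add, h2, h4, add_zero]⟩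
  neg_mem' := by
    rintro v ⟨h1, h2⟩
    exact ⟨by rw [map_neg, map_neg, h1], by rw [N_neg, h2, neg_zero]⟩

theorem mem_M {g k h : V →+ V} {v : V} : v ∈ M g k h ↔ g v = k v ∧ N h v = 0 := Iff.rfl

theorem three_le [Finite V] (h2 : ∀ v : V, v + v = 0) {g k h : V →+ V} (hgh : ∀ v, g (h v) = h (g v))
    (hkh : ∀ v, k (h v) = h (k v)) (hh : ∀ v, h v = 0 → v = 0) {v : V}
    (hv : v ∈ M g k h) (hv0 : v ≠ 0) : 3 ≤ Nat.card ↥(M g k h) := by
  obtain ⟨h1, h3⟩ := hv
  have hne : h v ≠ v := by
    intro he
    apply hv0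
    unfold N at h3
    rw [he, he, h2, zero_add] at h3
    exact h3
  have hmem : h v ∈ M g k h := by
    constructor
    · rw [hgh, hkh, h1]
    · have h4 := congrArg h h3
      unfold N at h4 ⊢
      simpa only [map_add, map_zero] using h4
  have : Fintype ↥(M g k h) := Fintype.ofFinite _
  rw [Nat.card_eq_fintype_card]
  apply Nat.succ_le_of_lt
  rw [Fintype.two_lt_card_iff]
  refine ⟨0, ⟨v, h1, h3⟩, ⟨h v, hmem⟩, ?_, ?_, ?_⟩
  · intro he
    exact hv0 (congrArg Subtype.val he).symm
  · intro he
    have h5 : (0 : V) = h v := congrArg Subtype.val he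
    exact hv0 (hh v h5.symm)
  · intro he
    have h5 : v = h v := congrArg Subtype.val he
    exact hne h5.symm

section

variable {a b w : V →+ V} (h2 : ∀ v : V, v + v = 0)
  (ha : ∀ v, a (a (a v)) = v) (hb : ∀ v, b (b (b v)) = v) (hab : ∀ v, a (b v) = b (a v))

include h2 in
theorem three (v : V) : v + v + v = v := by rw [h2, zero_add]

include ha hb hab

/-- `M₀ → M₁` -/
theorem step01 (hwa : ∀ v, w (a v) = a (a (b (b (w v))))) (hwb : ∀ v, w (b v) = a (b (b (w v)))) {v : V}
    (hv : v ∈ M a (AddMonoidHom.id V) b) : w v ∈ M a (b.comp b) b := by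
  obtain ⟨h1, h3⟩ := hv
  have h1' : a v = v := h1
  have e0 : w v = a (a (b (b (w v)))) := by rw [← hwa, h1']
  have e1 : a (w v) = b (b (w v)) := by
    have := congrArg a e0
    rwa [ha] at this
  refine ⟨e1, ?_⟩
  have e2 := congrArg w h3
  unfold N at e2 ⊢
  rw [map_zero, map_add, map_add] at e2
  simpa only [hwb, hab, map_add, e1, hb] using e2

/-- `M₁ → M₂` -/
theorem step12 (hwa : ∀ v, w (a v) = a (a (b (b (w v))))) (hwb : ∀ v, w (b v) = a (b (b (w v)))) {v : V}
    (hv : v ∈ M a (b.comp b) b) : w v ∈ M b (AddMonoidHom.id V) a := by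
  obtain ⟨h1, h3⟩ := hv
  have h1' : a v = b (b v) := h1
  have e0 := congrArg w h1'
  simp only [hwa, hwb, hab, hb] at e0
  have e1 : b (w v) = w v := by
    have := congrArg (fun x => a (b (b x))) e0
    simp only [hab, hb, ha] at this
    exact this
  refine ⟨e1, ?_⟩
  have e2 := congrArg w h3
  unfold N at e2 ⊢
  rw [map_zero, map_add, map_add] at e2
  simpa only [hwb, ← hab, map_add, e1, hb] using e2

/-- `M₂ → M₃` -/
theorem step23 (hwa : ∀ v, w (a v) = a (a (b (b (w v))))) (hwb : ∀ v, w (b v) = a (b (b (w v)))) {v : V}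
    (hv : v ∈ M b (AddMonoidHom.id V) a) : w v ∈ M a b b := by
  obtain ⟨h1, h3⟩ := hv
  have h1' : b v = v := h1
  have e0 : w v = a (b (b (w v))) := by rw [← hwb, h1']
  have e1 : a (w v) = b (w v) := by
    have := congrArg b e0
    rw [hab, hab, hb] at this
    exact this.symm
  refine ⟨e1, ?_⟩
  have e2 := congrArg w h3
  unfold N at e2 ⊢
  rw [map_zero, map_add, map_add] at e2
  simpa only [hwa, hab, map_add, e1, hb] using e2

/-- `M₃ → M₀` -/
theorem step30 (hwa : ∀ v, w (a v) = a (a (b (b (w v))))) (hwb : ∀ v, w (b v) = a (b (b (w v)))) {v : V}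
    (hv : v ∈ M a b b) : w v ∈ M a (AddMonoidHom.id V) b := by
  obtain ⟨h1, h3⟩ := hv
  have h1' : a v = b v := h1
  have e0 := congrArg w h1'
  rw [hwa, hwb] at e0
  have e1 : a (w v) = w v := by
    have := congrArg (fun x => a (a (b x))) e0
    simp only [hab, hb, ha] at this
    exact this
  refine ⟨e1, ?_⟩
  have e2 := congrArg w h3
  unfold N at e2 ⊢
  rw [map_zero, map_add, map_add] at e2
  simp only [hwb, hab, e1, hb] at e2
  rw [← e2]
  abel

include h2 in
omit ha in
/-- The four subgroups are independent. -/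
theorem indep {v₀ v₁ v₂ v₃ : V} (h₀ : v₀ ∈ M a (AddMonoidHom.id V) b) (h₁ : v₁ ∈ M a (b.comp b) b)
    (h₂ : v₂ ∈ M b (AddMonoidHom.id V) a) (h₃ : v₃ ∈ M a b b) (hs : v₀ + v₁ + v₂ + v₃ = 0) :
    v₀ = 0 ∧ v₁ = 0 ∧ v₂ = 0 ∧ v₃ = 0 := by
  obtain ⟨p₀, q₀⟩ := h₀
  obtain ⟨p₁, q₁⟩ := h₁
  obtain ⟨p₂, q₂⟩ := h₂
  obtain ⟨p₃, q₃⟩ := h₃
  replace p₀ : a v₀ = v₀ := p₀
  replace p₁ : a v₁ = b (b v₁) := p₁
  replace p₂ : b v₂ = v₂ := p₂
  replace p₃ : a v₃ = b v₃ := p₃
  have k0 : v₀ = 0 := by
    have h := congrArg (N a) hs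
    rw [N_add, N_add, N_add, N_zero, q₂] at h
    have e0 : N a v₀ = v₀ := by unfold N; rw [p₀, p₀, three h2]
    have e1 : N a v₁ = 0 := by
      rw [← q₁]; unfold N; simp only [p₁, hab, hb]; abel
    have e3 : N a v₃ = 0 := by
      rw [← q₃]; unfold N; simp only [p₃, hab]
    rwa [e0, e1, e3, add_zero, add_zero, add_zero] at h
  have k2 : v₂ = 0 := by
    have h := congrArg (N b) hs
    rw [N_add, N_add, N_add, N_zero, q₀, q₁, q₃] at h
    have e0 : N b v₂ = v₂ := by unfold N; rw [p₂, p₂, three h2]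
    rwa [e0, zero_add, zero_add, add_zero] at h
  have k1 : v₁ = 0 := by
    have h := congrArg (N (a.comp b)) hs
    rw [N_add, N_add, N_add, N_zero, k0, k2, N_zero, zero_add, add_zero] at h
    have e1 : N (a.comp b) v₁ = v₁ := by
      unfold N
      simp only [AddMonoidHom.comp_apply, hab, p₁, hb, three h2]
    have e3 : N (a.comp b) v₃ = 0 := by
      rw [← q₃]; unfold N; simp only [AddMonoidHom.comp_apply, hab, p₃, hb]; abel
    rwa [e1, e3, add_zero] at h
  refine ⟨k0, k1, k2, ?_⟩
  rwa [k0, k1, k2, add_zero, add_zero, zero_add] at hs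

include h2 in
/-- **The coprime action** (pointwise, additive). -/
theorem core [Finite V] (hc : Nat.card V < 81)
    (hw : ∀ v, w v = 0 → v = 0) (hwa : ∀ v, w (a v) = a (a (b (b (w v))))) (hwb : ∀ v, w (b v) = a (b (b (w v)))) (v : V) :
    a v = v ∧ b v = v := by
  have ia : ∀ v, a v = 0 → v = 0 := by
    intro v hv
    rw [← ha v, hv, map_zero, map_zero]
  have ib : ∀ v, b v = 0 → v = 0 := by
    intro v hv
    rw [← hb v, hv, map_zero, map_zero]
  -- all of them are zero
  have hM0 : ∀ v ∈ M a (AddMonoidHom.id V) b, v = 0 := by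
    intro v hv
    by_contra hv0
    have m1 := step01 ha hb hab hwa hwb hv
    have m2 := step12 ha hb hab hwa hwb m1
    have m3 := step23 ha hb hab hwa hwb m2
    have n1 : w v ≠ 0 := fun h => hv0 (hw _ h)
    have n2 : w (w v) ≠ 0 := fun h => n1 (hw _ h)
    have n3 : w (w (w v)) ≠ 0 := fun h => n2 (hw _ h)
    have c0 := three_le (k := AddMonoidHom.id V) h2 hab (fun _ => rfl) ib hv hv0
    have c1 := three_le (k := b.comp b) h2 hab (fun _ => rfl) ib m1 n1
    have c2 := three_le (k := AddMonoidHom.id V) h2 (fun v => (hab v).symm) (fun _ => rfl) ia m2 n2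
    have c3 := three_le (k := b) h2 hab (fun _ => rfl) ib m3 n3
    have hinj : Function.Injective (fun p : (↥(M a (AddMonoidHom.id V) b) × ↥(M a (b.comp b) b)) ×
        (↥(M b (AddMonoidHom.id V) a) × ↥(M a b b)) => (p.1.1 : V) + p.1.2 + p.2.1 + p.2.2) := by
      rintro ⟨⟨x0, x1⟩, ⟨x2, x3⟩⟩ ⟨⟨y0, y1⟩, ⟨y2, y3⟩⟩ h
      have h' : (x0 : V) + x1 + x2 + x3 = y0 + y1 + y2 + y3 := h
      have h3 : ((x0 - y0 : ↥(M a (AddMonoidHom.id V) b)) : V) + ((x1 - y1 : ↥(M a (b.comp b) b)) : V)
          + ((x2 - y2 : ↥(M b (AddMonoidHom.id V) a)) : V) + ((x3 - y3 : ↥(M a b b)) : V) = 0 := by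
        push_cast
        have : (x0 : V) + x1 + x2 + x3 - (y0 + y1 + y2 + y3) = 0 := sub_eq_zero.2 h'
        rw [← this]
        abel
      obtain ⟨z0, z1, z2, z3⟩ := indep h2 hb hab (x0 - y0).2 (x1 - y1).2 (x2 - y2).2 (x3 - y3).2 h3
      have w0 : x0 = y0 := sub_eq_zero.1 (Subtype.ext z0)
      have w1 : x1 = y1 := sub_eq_zero.1 (Subtype.ext z1)
      have w2 : x2 = y2 := sub_eq_zero.1 (Subtype.ext z2)
      have w3 : x3 = y3 := sub_eq_zero.1 (Subtype.ext z3)
      rw [w0, w1, w2, w3]
    have hcard := Nat.card_le_card_of_injective _ hinj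
    rw [Nat.card_prod, Nat.card_prod, Nat.card_prod] at hcard
    have h9 : 9 ≤ Nat.card ↥(M a (AddMonoidHom.id V) b) * Nat.card ↥(M a (b.comp b) b) := Nat.mul_le_mul c0 c1
    have h9' : 9 ≤ Nat.card ↥(M b (AddMonoidHom.id V) a) * Nat.card ↥(M a b b) := Nat.mul_le_mul c2 c3
    have h81 : 9 * 9 ≤ _ := Nat.mul_le_mul h9 h9'
    omega
  have hM3 : ∀ v ∈ M a b b, v = 0 := fun v hv => hw _ (hM0 _ (step30 ha hb hab hwa hwb hv))
  have hM2 : ∀ v ∈ M b (AddMonoidHom.id V) a, v = 0 := fun v hv => hw _ (hM3 _ (step23 ha hb hab hwa hwb hv))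
  have hM1 : ∀ v ∈ M a (b.comp b) b, v = 0 := fun v hv => hw _ (hM2 _ (step12 ha hb hab hwa hwb hv))
  -- a vector in one of the four subgroups built from a norm
  have aux : ∀ y z : V, y + z = 0 → z = y := by
    intro y z h
    have h3 : y + z = y + y := by rw [h, h2]
    exact add_left_cancel h3
  have bA : b (N a v) = N a v := by
    apply aux
    apply hM0
    refine ⟨?_, ?_⟩
    · show a _ = _
      unfold N
      simp only [map_add, hab, ha, AddMonoidHom.id_apply]
      abel
    · unfold N
      simp only [map_add, hb]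
      have e := h2 (v + a v + a (a v) + b (v + a v + a (a v)) + b (b (v + a v + a (a v))))
      rw [← e]
      simp only [map_add]
      abel
  have aB : a (N b v) = N b v := by
    apply aux
    apply hM2
    refine ⟨?_, ?_⟩
    · show b _ = _
      unfold N
      simp only [map_add, ← hab, hb, AddMonoidHom.id_apply]
      abel
    · unfold N
      simp only [map_add, ha]
      have e := h2 (v + b v + b (b v) + a (v + b v + b (b v)) + a (a (v + b v + b (b v))))
      rw [← e]
      simp only [map_add]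
      abel
  have bC : b (N (a.comp b) v) = N (a.comp b) v := by
    apply aux
    apply hM1
    refine ⟨?_, ?_⟩
    · show a _ = b (b _)
      unfold N
      simp only [AddMonoidHom.comp_apply, map_add, hab, ha, hb]
      abel
    · unfold N
      simp only [AddMonoidHom.comp_apply, map_add, hb, hab]
      have e := h2 (v + a v + a (a v) + b (v + a v + a (a v)) + b (b (v + a v + a (a v))))
      rw [← e]
      simp only [map_add]
      abel
  have bD : b (N (a.comp (b.comp b)) v) = N (a.comp (b.comp b)) v := by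
    apply aux
    apply hM3
    refine ⟨?_, ?_⟩
    · show a _ = b _
      unfold N
      simp only [AddMonoidHom.comp_apply, map_add, hab, ha, hb]
      abel
    · unfold N
      simp only [AddMonoidHom.comp_apply, map_add, hb, hab]
      have e := h2 (v + a v + a (a v) + b (v + a v + a (a v)) + b (b (v + a v + a (a v))))
      rw [← e]
      simp only [map_add]
      abel
  have bB : b (N b v) = N b v := by
    unfold N
    simp only [map_add, hb]
    abel
  have aC : a (N (a.comp b) v) = N (a.comp b) v := by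
    have h : a (b (N (a.comp b) v)) = N (a.comp b) v := by
      unfold N
      simp only [AddMonoidHom.comp_apply, map_add, hab, ha, hb]
      abel
    rwa [bC] at h
  have aD : a (N (a.comp (b.comp b)) v) = N (a.comp (b.comp b)) v := by
    have h : a (b (b (N (a.comp (b.comp b)) v))) = N (a.comp (b.comp b)) v := by
      unfold N
      simp only [AddMonoidHom.comp_apply, map_add, hab, ha, hb]
      abel
    rwa [bD, bD] at h
  have hid : N a v + N b v + N (a.comp b) v + N (a.comp (b.comp b)) v = v + v + v + N b (N a v) := by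
    unfold N
    simp only [AddMonoidHom.comp_apply, map_add, hab, ha, hb]
    abel
  have hNN : N b (N a v) = N a v := by
    show N a v + b (N a v) + b (b (N a v)) = N a v
    rw [bA, bA, three h2]
  rw [hNN, three h2] at hid
  have hv : v = N b v + N (a.comp b) v + N (a.comp (b.comp b)) v := by
    have h3 : N a v + (N b v + N (a.comp b) v + N (a.comp (b.comp b)) v) = N a v + v := by
      rw [add_comm (N a v) v, ← hid]
      abel
    exact (add_left_cancel h3).symm
  constructor
  · conv_rhs => rw [hv]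
    conv_lhs => rw [hv]
    rw [map_add, map_add, aB, aC, aD]
  · conv_rhs => rw [hv]
    conv_lhs => rw [hv]
    rw [map_add, map_add, bB, bC, bD]

end

end add

/-- **The coprime action.** `a`, `b` automorphisms of an elementary abelian `2`-group of order less than `81` with
`a³ = b³ = 1`, `a b = b a`, `w⁻¹ a w = a² b²`, `w⁻¹ b w = a b²`: then `a = b = 1`. -/
theorem triv {V : Type*} [Group V] [Finite V] (h2 : ∀ v : V, v * v = 1) (hc : Nat.card V < 81) (a b w : MulAut V)
    (ha : a ^ 3 = 1) (hb : b ^ 3 = 1) (hab : a * b = b * a) (hwa : w⁻¹ * a * w = a ^ 2 * b ^ 2)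
    (hwb : w⁻¹ * b * w = a * b ^ 2) : a = 1 ∧ b = 1 := by
  have hcomm : ∀ x y : V, x * y = y * x := by
    intro x y
    have hi : ∀ v : V, v⁻¹ = v := fun v => inv_eq_of_mul_eq_one_left (h2 v)
    have h := hi (x * y)
    rw [mul_inv_rev, hi, hi] at h
    exact h.symm
  let _ : CommGroup V := { (inferInstance : Group V) with mul_comm := hcomm }
  let A : Additive V →+ Additive V := MonoidHom.toAdditive (a : V →* V)
  let B : Additive V →+ Additive V := MonoidHom.toAdditive (b : V →* V)
  let W : Additive V →+ Additive V := MonoidHom.toAdditive ((w⁻¹ : MulAut V) : V →* V)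
  have ha' : ∀ v : V, a (a (a v)) = v := by
    intro v
    have := congrArg (fun k : MulAut V => k v) ha
    simpa [pow_succ, MulAut.mul_apply] using this
  have hb' : ∀ v : V, b (b (b v)) = v := by
    intro v
    have := congrArg (fun k : MulAut V => k v) hb
    simpa [pow_succ, MulAut.mul_apply] using this
  have hab' : ∀ v : V, a (b v) = b (a v) := fun v => congrArg (fun k : MulAut V => k v) hab
  have hwa' : ∀ v : V, w⁻¹ (a v) = a (a (b (b (w⁻¹ v)))) := by
    intro v
    have h1 : w⁻¹ * a = a ^ 2 * b ^ 2 * w⁻¹ := by rw [← hwa]; group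
    have := congrArg (fun k : MulAut V => k v) h1
    simpa only [pow_two, MulAut.mul_apply] using this
  have hwb' : ∀ v : V, w⁻¹ (b v) = a (b (b (w⁻¹ v))) := by
    intro v
    have h1 : w⁻¹ * b = a * b ^ 2 * w⁻¹ := by rw [← hwb]; group
    have := congrArg (fun k : MulAut V => k v) h1
    simpa only [pow_two, MulAut.mul_apply] using this
  have key := core (a := A) (b := B) (w := W) (fun v => h2 v.toMul) (fun v => ha' v.toMul) (fun v => hb' v.toMul)
    (fun v => hab' v.toMul) hc (fun v hv => by
      have h3 : w⁻¹ v.toMul = 1 := hv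
      have h4 := congrArg w h3
      rw [map_one, ← MulAut.mul_apply, mul_inv_cancel, MulAut.one_apply] at h4
      exact h4) (fun v => hwa' v.toMul) (fun v => hwb' v.toMul)
  exact ⟨MulEquiv.ext fun v => (key (Additive.ofMul v)).1, MulEquiv.ext fun v => (key (Additive.ofMul v)).2⟩

end Cfsg.Agent.H604.U33.Coprime
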