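import Cfsg.Agent.H819.U33.Trip

/-!
# S5525, piece A2: the assembly (helper604)

`centralizer_ne` : if `H ≤ L` is generated by a `Trip`, `L ≃* G` and every `Trip` of `G` commutes with some `c ≠ 1`, then the
centralizer of `H` in `L` is not trivial.
-/

set_option autoImplicit false

namespace Cfsg.Agent.H604.U33.Asm

open Cfsg.Agent.H819.U33 (Trip)

/-- **The assembly.** -/
theorem centralizer_ne {L G : Type*} [Group L] [Group G] (e : L ≃* G) (H : Subgroup L)
    (hgen : ∃ u y x : ↥H, Trip u y x ∧ Subgroup.closure ({u, y, x} : Set ↥H) = ⊤)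
    (main : ∀ u y x : G, Trip u y x → ∃ c : G, c ≠ 1 ∧ c * u = u * c ∧ c * y = y * c ∧ c * x = x * c) :
    Subgroup.centralizer (H : Set L) ≠ ⊥ := by
  obtain ⟨u, y, x, hT, hcl⟩ := hgen
  obtain ⟨c, hc1, hcu, hcy, hcx⟩ := main _ _ _
    (hT.map (e.toMonoidHom.comp H.subtype) (e.injective.comp Subtype.val_injective))
  have key : ∀ a : ↥H, c * e (a : L) = e (a : L) * c → a ∈ (Subgroup.centralizer ({e.symm c} : Set L)).comap H.subtype := by
    intro a ha
    rw [Subgroup.mem_comap, Subgroup.mem_centralizer_singleton_iff]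
    apply e.injective
    rw [map_mul, map_mul, e.apply_symm_apply]
    exact ha.symm
  have hle : (⊤ : Subgroup ↥H) ≤ (Subgroup.centralizer ({e.symm c} : Set L)).comap H.subtype := by
    rw [← hcl, Subgroup.closure_le]
    rintro a (rfl | rfl | rfl)
    · exact key _ hcu
    · exact key _ hcy
    · exact key _ hcx
  intro hbot
  have hmem : e.symm c ∈ Subgroup.centralizer (H : Set L) := by
    rw [Subgroup.mem_centralizer_iff]
    intro a ha
    have h1 := hle (Subgroup.mem_top (⟨a, ha⟩ : ↥H))
    rw [Subgroup.mem_comap, Subgroup.mem_centralizer_singleton_iff] at h1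
    exact h1
  rw [hbot, Subgroup.mem_bot] at hmem
  apply hc1
  have := congrArg e hmem
  rwa [e.apply_symm_apply, map_one] at this

end Cfsg.Agent.H604.U33.Asm
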