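import Cfsg.Agent.H863.U33.Num
import Cfsg.Agent.J4.DCosetThm

/-!
# S5525, part F, piece L4: the group generated by the two `6 × 6` matrices `Kw 0`, `Kw 1` over `F₂` (helper604)

`card_ge` : a subgroup of `Perm (F₂⁶)` containing `v ↦ v (Kw 0)` and `v ↦ v (Kw 1)` has order at least `25920` (`= |U₄(2)|`).
Proof: a stabiliser chain with orbits of lengths 27, 10, 8, 4, 3.
-/

set_option autoImplicit false
set_option maxRecDepth 10000

namespace Cfsg.Agent.H604.U33.Mat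

open Cfsg.Agent.H863.U33

/-- `F₂⁶` -/
abbrev X : Type := Fin 6 → ZMod 2

/-- row vector times matrix -/
def mu (A : Fin 6 → Fin 6 → ZMod 2) (v : X) : X := fun j => ∑ i, v i * A i j

/-- the tables of the two matrices, 6 bits per vector -/
def tb (c : Fin 2) : ℕ := match c with
  | 0 => 0x28b6193ce75cebba29ffeb6c69b2097de34caabe39beef7cdb7925cf28601875150c24509a7d358e2c705971054d2040
  | 1 => 0x6068bc7029b844faf554bbf1ab440ebb050a8fd6479f97436c587f7c197b48ca36588b32a774cdb735c983e68493a780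

/-- the matrices on vectors coded by numbers -/
def ap (c : Fin 2) (x : ℕ) : ℕ := (tb c >>> (6 * x)) % 64

/-- decoding -/
def dec (x : ℕ) : X := fun j => if x.testBit j then 1 else 0

theorem ap_lt (c : Fin 2) (x : ℕ) : ap c x < 64 := Nat.mod_lt _ (by norm_num)

theorem mu_dec' : ∀ (c : Fin 2) (x : Fin 64), mu (Kw c) (dec x) = dec (ap c x) := by decide +kernel

theorem mu_dec (c : Fin 2) {x : ℕ} (h : x < 64) : mu (Kw c) (dec x) = dec (ap c x) := mu_dec' c ⟨x, h⟩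

theorem dec_inj' : ∀ x y : Fin 64, dec x = dec y → x = y := by decide +kernel

theorem dec_inj {x y : ℕ} (hx : x < 64) (hy : y < 64) (h : dec x = dec y) : x = y :=
  congrArg Fin.val (dec_inj' ⟨x, hx⟩ ⟨y, hy⟩ h)

/-- words, the first letter acts first -/
def apw : List (Fin 2) → ℕ → ℕ
  | [], x => x
  | c :: w, x => apw w (ap c x)

theorem apw_lt (w : List (Fin 2)) : ∀ {x : ℕ}, x < 64 → apw w x < 64 := by
  induction w with
  | nil => exact fun h => h
  | cons c w ih => exact fun _ => ih (ap_lt c _)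

/-- the base -/
def B : Fin 5 → ℕ := ![1, 4, 2, 8, 16]

/-- the words -/
def W : Fin 5 → List (List (Fin 2)) := ![
  [[],
    [1],
    [1, 0],
    [1, 1],
    [1, 0, 0],
    [1, 0, 1],
    [1, 1, 0],
    [1, 1, 1],
    [1, 0, 0, 0],
    [1, 0, 0, 1],
    [1, 0, 1, 1],
    [1, 1, 1, 0],
    [1, 0, 0, 0, 0],
    [1, 0, 0, 1, 0],
    [1, 0, 1, 1, 0],
    [1, 1, 1, 0, 0],
    [1, 1, 1, 0, 1],
    [1, 0, 0, 0, 0, 0],
    [1, 0, 0, 0, 0, 1],
    [1, 0, 0, 1, 0, 1],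
    [1, 0, 1, 1, 0, 0],
    [1, 0, 1, 1, 0, 1],
    [1, 1, 1, 0, 0, 1],
    [1, 1, 1, 0, 1, 1],
    [1, 0, 0, 0, 0, 0, 1],
    [1, 0, 0, 0, 0, 1, 0],
    [1, 1, 1, 0, 1, 1, 1]],
  [[],
    [0],
    [1, 1, 0, 1, 0, 1, 1],
    [0, 1, 1, 0, 1, 0, 1, 1],
    [1, 1, 0, 1, 0, 1, 1, 0],
    [0, 1, 1, 0, 1, 0, 1, 1, 0],
    [1, 0, 1, 1, 0, 0, 1, 0, 1],
    [1, 1, 0, 1, 0, 0, 0, 1, 1],
    [1, 1, 0, 1, 0, 1, 1, 0, 0],
    [0, 1, 1, 0, 1, 0, 1, 1, 0, 0]],
  [[],
    [0, 1, 1, 0, 0, 1, 1, 0],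
    [0, 1, 1, 0, 1, 1, 0, 1, 1],
    [1, 1, 0, 1, 1, 0, 1, 1, 0],
    [0, 1, 1, 0, 0, 1, 1, 0, 0, 0],
    [0, 1, 0, 1, 0, 1, 0, 0, 1, 0, 1],
    [0, 1, 1, 0, 1, 1, 0, 0, 0, 1, 1],
    [0, 1, 1, 0, 1, 1, 0, 0, 0, 0, 0, 1, 1]],
  [[],
    [0, 0],
    [0, 0, 0, 0],
    [0, 0, 1, 1, 0, 0, 1, 1]],
  [[],
    [1, 1, 0, 0, 1, 1],
    [1, 1, 0, 0, 0, 0, 1, 1]]]


theorem W_length : ∀ j : Fin 5, (W j).length = ![27, 10, 8, 4, 3] j := by decide +kernel

theorem B_lt : ∀ j : Fin 5, B j < 64 := by decide +kernel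

theorem fix_all : ∀ j : Fin 5, ∀ w ∈ W j, ∀ i : Fin 5, i < j → apw w (B i) = B i := by decide +kernel

theorem inj_all : ∀ j : Fin 5, ((W j).map (fun w => apw w (B j))).Nodup := by decide +kernel

/-- the product of permutations along a word -/
def wp (P : Fin 2 → Equiv.Perm X) : List (Fin 2) → Equiv.Perm X
  | [] => 1
  | c :: w => wp P w * P c

theorem wp_dec {P : Fin 2 → Equiv.Perm X} (hP : ∀ c v, P c v = mu (Kw c) v) (w : List (Fin 2)) :
    ∀ {x : ℕ}, x < 64 → wp P w (dec x) = dec (apw w x) := by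
  induction w with
  | nil => exact fun _ => rfl
  | cons c w ih =>
    intro x hx
    rw [wp, Equiv.Perm.mul_apply, hP, mu_dec c hx, ih (ap_lt c x)]
    rfl

theorem wp_mem {P : Fin 2 → Equiv.Perm X} {S : Subgroup (Equiv.Perm X)} (h : ∀ c, P c ∈ S) (w : List (Fin 2)) : wp P w ∈ S := by
  induction w with
  | nil => exact S.one_mem
  | cons c w ih => exact S.mul_mem ih (h c)

/-- **The order of the group generated by the two matrices.** -/
theorem card_ge {P : Fin 2 → Equiv.Perm X} (hP : ∀ c v, P c v = mu (Kw c) v) {S : Subgroup (Equiv.Perm X)}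
    (h : ∀ c, P c ∈ S) : 25920 ≤ Nat.card ↥S := by
  have key := Cfsg.Agent.J4.DCosetThm.card_ge_of_levels S 5 (fun j => dec (B j)) (fun j => (W j).length)
    (fun j a => wp P ((W j).get a)) (fun j a => wp_mem h _)
    (fun j a i hi => by
      show wp P _ (dec (B i)) = dec (B i)
      rw [wp_dec hP _ (B_lt i), fix_all j _ (List.get_mem _ _) i hi])
    (fun j a a' haa => by
      have haa' : wp P ((W j).get a) (dec (B j)) = wp P ((W j).get a') (dec (B j)) := haa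
      rw [wp_dec hP _ (B_lt j), wp_dec hP _ (B_lt j)] at haa'
      have h1 := dec_inj (apw_lt _ (B_lt j)) (apw_lt _ (B_lt j)) haa'
      have h2 := List.nodup_iff_injective_get.1 (inj_all j)
      have hl : ((W j).map (fun w => apw w (B j))).length = (W j).length := List.length_map _
      have h3 := @h2 ⟨a, by rw [hl]; exact a.2⟩ ⟨a', by rw [hl]; exact a'.2⟩ (by simpa using h1)
      have h4 := congrArg Fin.val h3
      exact Fin.ext h4)
  have h2 : ∏ j : Fin 5, (W j).length = 25920 := by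
    simp only [W_length]
    decide
  rw [h2] at key
  exact key

end Cfsg.Agent.H604.U33.Mat
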